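import Groth.Agent.UnibEtale.Basic
import Groth.Agent.UnivOpen.AffineSpaceUnibranch
import Groth.Agent.Hensel.IntegralStrict
import Groth.Agent.BrnchLib.Unibranch
import Mathlib

/-! Strictly henselian domains are geometrically unibranch; smooth algebras over them. -/

set_option autoImplicit false
set_option linter.style.haveILetI false
universe u

namespace Groth.Agent.Unib7

open IsLocalRing

theorem isGeomUnibranch_of_strictlyHenselian (R : Type u) [CommRing R] [IsDomain R] [HenselianLocalRing R]
    [IsSepClosed (ResidueField R)] : CAlg2.IsGeomUnibranch R := by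
  have hn : (nilradical R).IsPrime := by rw [nilradical_eq_zero]; exact Ideal.bot_prime
  haveI hdom : IsDomain (CAlg2.red R) := (Ideal.Quotient.isDomain_iff_prime _).2 hn
  let g : R →+* CAlg2.normRed R :=
    (algebraMap (CAlg2.red R) (CAlg2.normRed R)).comp (Ideal.Quotient.mk (nilradical R))
  have hg : g.IsIntegral := (RingHom.isIntegral_of_surjective _ Ideal.Quotient.mk_surjective).trans _ _
    (Algebra.IsIntegral.isIntegral (R := CAlg2.red R))
  letI : Algebra R (CAlg2.normRed R) := g.toAlgebra
  haveI : Algebra.IsIntegral R (CAlg2.normRed R) := ⟨hg⟩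
  haveI := Hensel.isLocalRing_of_isIntegral_domain R (CAlg2.normRed R)
  refine ⟨⟨hdom, inferInstance⟩, fun m hm => ?_⟩
  letI : Field (CAlg2.normRed R ⧸ m) := Ideal.Quotient.field m
  have hker : RingHom.ker ((Ideal.Quotient.mk m).comp g) = maximalIdeal R := by
    refine IsLocalRing.eq_maximalIdeal ?_
    rw [← RingHom.comap_ker, Ideal.mk_ker]
    exact Ideal.isMaximal_comap_of_isIntegral_of_isMaximal (R := R) m
  let φ : ResidueField R →+* CAlg2.normRed R ⧸ m :=
    Ideal.Quotient.lift _ ((Ideal.Quotient.mk m).comp g) fun a ha => by rwa [← hker, RingHom.mem_ker] at ha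
  letI : Algebra (ResidueField R) (CAlg2.normRed R ⧸ m) := φ.toAlgebra
  letI : Algebra R (CAlg2.normRed R ⧸ m) := ((Ideal.Quotient.mk m).comp g).toAlgebra
  haveI : IsScalarTower R (ResidueField R) (CAlg2.normRed R ⧸ m) := IsScalarTower.of_algebraMap_eq fun _ => rfl
  haveI : Algebra.IsIntegral R (CAlg2.normRed R ⧸ m) :=
    ⟨hg.trans _ _ (RingHom.isIntegral_of_surjective _ Ideal.Quotient.mk_surjective)⟩
  haveI : Algebra.IsIntegral (ResidueField R) (CAlg2.normRed R ⧸ m) := Algebra.IsIntegral.tower_top R
  intro x
  obtain ⟨n, y, hy⟩ := IsPurelyInseparable.pow_mem (ResidueField R) (ringExpChar (ResidueField R)) x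
  obtain ⟨a, rfl⟩ := residue_surjective y
  refine ⟨n, a, ?_⟩
  haveI := ringExpChar.expChar (ResidueField R)
  haveI := expChar_of_injective_algebraMap (algebraMap (ResidueField R) (CAlg2.normRed R ⧸ m)).injective
    (ringExpChar (ResidueField R))
  rw [ringExpChar.eq (CAlg2.normRed R ⧸ m) (ringExpChar (ResidueField R))]
  exact hy

theorem isGeomUnibranch_of_smooth {R S : Type u} [CommRing R] [IsDomain R] [CommRing S] [Algebra R S]
    [Algebra.Smooth R S] (p : Ideal R) [p.IsPrime] (h : CAlg2.IsGeomUnibranch (Localization.AtPrime p))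
    (q : Ideal S) [q.IsPrime] (hq : q.comap (algebraMap R S) = p) :
    IsDomain (Localization.AtPrime q) ∧ CAlg2.IsGeomUnibranch (Localization.AtPrime q) := by
  obtain ⟨f, hf, n, _, _, _⟩ := Algebra.IsSmoothAt.exists_isStandardEtale_mvPolynomial (R := R) (p := q)
  let M := Submonoid.powers f
  let S' := Localization.Away f
  have hdisj : Disjoint (M : Set S) (q : Set S) := by
    rw [Set.disjoint_left]
    rintro _ ⟨k, rfl⟩ hk
    exact hf (Ideal.IsPrime.mem_of_pow_mem ‹_› k hk)
  let q' : Ideal S' := q.map (algebraMap S S')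
  haveI hq'p : q'.IsPrime := IsLocalization.isPrime_of_isPrime_disjoint M S' q ‹_› hdisj
  have hq'q : q'.comap (algebraMap S S') = q := IsLocalization.comap_map_of_isPrime_disjoint M S' ‹q.IsPrime› hdisj
  let P := q'.comap (algebraMap (MvPolynomial (Fin n) R) S')
  let e : MvPolynomial (ULift.{u} (Fin n)) R ≃ₐ[R] MvPolynomial (Fin n) R :=
    MvPolynomial.renameEquiv R Equiv.ulift
  let P' := P.comap e.toRingEquiv.toRingHom
  have hP' : p = P'.comap MvPolynomial.C := by
    rw [← hq, ← hq'q, Ideal.comap_comap, ← IsScalarTower.algebraMap_eq R S S',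
      IsScalarTower.algebraMap_eq R (MvPolynomial (Fin n) R) S', ← Ideal.comap_comap]
    show P.comap (algebraMap R _) = (P.comap e.toRingEquiv.toRingHom).comap MvPolynomial.C
    rw [Ideal.comap_comap]
    rw [← e.toAlgHom.comp_algebraMap]
    rfl
  have hU := UnivOpen.isGeomUnibranch_localization_mvPolynomial _ P' p hP' h
  let ψ : Localization.AtPrime P' ≃+* Localization.AtPrime P :=
    IsLocalization.ringEquivOfRingEquiv (M := P'.primeCompl) (T := P.primeCompl) _ _ e.toRingEquiv (by
      ext x
      simp only [Submonoid.mem_map, Ideal.mem_primeCompl_iff]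
      constructor
      · rintro ⟨y, hy, rfl⟩
        exact hy
      · intro hx
        exact ⟨e.symm x, fun hm => hx (by simpa [P'] using hm), e.apply_symm_apply x⟩)
  obtain ⟨h1, h2⟩ := UnibEtale.atPrime_of_etale (MvPolynomial (Fin n) R) S' P q' rfl
    (UnibEtale.isGeomUnibranch_of_ringEquiv ψ hU)
  haveI : IsDomain (Localization.AtPrime P) :=
    IsLocalization.isDomain_localization P.primeCompl_le_nonZeroDivisors
  haveI := h2 inferInstance
  haveI : IsLocalization.AtPrime (Localization.AtPrime q') q := by
    have := IsLocalization.isLocalization_isLocalization_atPrime_isLocalization M (Localization.AtPrime q') q'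
    simpa only [hq'q] using this
  let ε : Localization.AtPrime q' ≃+* Localization.AtPrime q :=
    (IsLocalization.algEquiv q.primeCompl (Localization.AtPrime q') (Localization.AtPrime q)).toRingEquiv
  exact ⟨ε.symm.toMulEquiv.isDomain _, UnibEtale.isGeomUnibranch_of_ringEquiv ε h1⟩

end Groth.Agent.Unib7
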