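import Groth.Prelude.Def_Hensel
import Groth.Agent.Hensel.Henselization
import Groth.Agent.Hensel.HenselizationProps
import Groth.Agent.IsoNatLib.SmoothCrit
import Mathlib

/-! A quotient of a strict henselization is a strict henselization of the quotient. -/

set_option autoImplicit false
set_option linter.style.haveILetI false
universe u

namespace Groth.Agent.Unib7

open IsLocalRing

theorem isStrictHenselization_of_surjective {A T A' T' : Type u} [CommRing A] [IsLocalRing A] [CommRing T]
    [IsLocalRing T] [Algebra A T] [IsLocalHom (algebraMap A T)] [h : Hensel.IsStrictHenselization A T]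
    [CommRing A'] [IsLocalRing A'] [CommRing T'] [IsLocalRing T'] [Algebra A' T'] [IsLocalHom (algebraMap A' T')]
    (π : A →+* A') (hπ : Function.Surjective π) (π' : T →+* T') (hπ' : Function.Surjective π')
    (hc : (algebraMap A' T').comp π = π'.comp (algebraMap A T))
    (hker : RingHom.ker π' ≤ (RingHom.ker π).map (algebraMap A T)) :
    Hensel.IsStrictHenselization A' T' := by
  haveI := hπ.isLocalHom
  haveI := hπ'.isLocalHom
  have hb : ∀ {R R' : Type u} [CommRing R] [CommRing R'] [IsLocalRing R] [IsLocalRing R'] (q : R →+* R')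
      [IsLocalHom q], Function.Surjective q → Function.Bijective (ResidueField.map q) := fun q _ hq =>
    ⟨(ResidueField.map q).injective, fun x => by
      obtain ⟨y, rfl⟩ := residue_surjective x
      obtain ⟨z, rfl⟩ := hq y
      exact ⟨residue _ z, rfl⟩⟩
  let eA := RingEquiv.ofBijective _ (hb π hπ)
  let eT := RingEquiv.ofBijective _ (hb π' hπ')
  haveI := h.henselian
  have hne : RingHom.ker π' ≠ ⊤ := RingHom.ker_ne_top π'
  haveI := IsoNatLib.henselianLocalRing_quotient (RingHom.ker π') hne
  have hc' : ∀ a, algebraMap A' T' (π a) = π' (algebraMap A T a) := RingHom.congr_fun hc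
  haveI := h.isSepClosure.separable
  haveI : IsSepClosed (ResidueField T) := h.isSepClosure.sep_closed
  refine ⟨Hensel.henselianLocalRing_of_ringEquiv (RingHom.quotientKerEquivOfSurjective hπ'),
    ⟨Hensel.isSepClosed_of_ringEquiv eT, ?_⟩, fun C _ _ f _ τ hτ => ?_⟩
  · refine Algebra.IsSeparable.of_equiv_equiv eA eT (RingHom.ext fun x => ?_)
    obtain ⟨a, rfl⟩ := residue_surjective x
    exact congrArg (residue T') (hc' a)
  · obtain ⟨g, ⟨hg, hgr⟩, huniq⟩ := h.universal C (f.comp π) (τ.comp eT.toRingHom) (by
      refine RingHom.ext fun x => ?_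
      obtain ⟨a, rfl⟩ := residue_surjective x
      have := RingHom.congr_fun hτ (residue A' (π a))
      refine Eq.trans (congrArg τ ?_) this
      exact congrArg (residue T') (hc' a).symm)
    have hk : ∀ t, π' t = 0 → g t = 0 := fun t ht => by
      have hle : (RingHom.ker π).map (algebraMap A T) ≤ RingHom.ker g := Ideal.map_le_iff_le_comap.2 fun a ha => by
        show g (algebraMap A T a) = 0
        rw [← RingHom.comp_apply g, hg, RingHom.comp_apply, RingHom.mem_ker.1 ha, map_zero]
      exact hle (hker ht)
    let g' : T' →+* C := RingHom.liftOfSurjective π' hπ' ⟨g, fun t ht => hk t ht⟩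
    have hg' : ∀ t, g' (π' t) = g t := fun t => RingHom.liftOfRightInverse_comp_apply _ _ _ _ t
    refine ⟨g', ⟨RingHom.ext fun x => ?_, fun x => ?_⟩, fun g₂ hg₂ => RingHom.ext fun x => ?_⟩
    · obtain ⟨a, rfl⟩ := hπ x
      rw [RingHom.comp_apply, hc', hg', ← RingHom.comp_apply g, hg, RingHom.comp_apply]
    · obtain ⟨t, rfl⟩ := hπ' x
      rw [hg', hgr]
      rfl
    · obtain ⟨t, rfl⟩ := hπ' x
      rw [hg']
      refine RingHom.congr_fun (huniq (g₂.comp π') ⟨RingHom.ext fun a => ?_, fun t => ?_⟩) t
      · show g₂ (π' (algebraMap A T a)) = f (π a)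
        rw [← hc', ← RingHom.comp_apply g₂, hg₂.1]
      · exact hg₂.2 (π' t)

end Groth.Agent.Unib7
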