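import Groth.Agent.BrnchLib.EtNbhd
import Groth.Agent.BrnchLib.Unibranch
import Groth.Agent.BrnchLib.LeCompletion
import Groth.Agent.Hensel.HenselizationDescent
import Groth.Prelude.Def_CAlg2
import Mathlib.RingTheory.Ideal.Height
import Mathlib.AlgebraicGeometry.Noetherian

/-!
# Geometrically unibranch local rings and punctured strict henselizations
-/

set_option backward.isDefEq.respectTransparency false
set_option backward.isDefEq.respectTransparency.types false
set_option linter.style.haveILetI false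

noncomputable section

universe u

open CategoryTheory AlgebraicGeometry IsLocalRing
open Groth.Agent.Hensel (Henz)

namespace Groth.Agent.Unib7.Punctured

section Alg

variable (A S : Type u) [CommRing A] [IsLocalRing A] [CommRing S] [IsLocalRing S] [Algebra A S]
  [IsLocalHom (algebraMap A S)] [_root_.Hensel.IsStrictHenselization A S]

theorem eq_closedPoint_of_comap {s : PrimeSpectrum S}
    (hs : s.asIdeal.comap (algebraMap A S) = maximalIdeal A) : s = closedPoint S :=
  PrimeSpectrum.ext (le_antisymm (le_maximalIdeal s.isPrime.ne_top) (by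
    rw [show (closedPoint S).asIdeal = maximalIdeal S from rfl,
      ← (Groth.Agent.Hensel.isHenzLike_of_isStrictHenselization A S).map_maximalIdeal]
    exact Ideal.map_le_iff_le_comap.2 hs.ge))

/-- A local ring with a single prime is geometrically unibranch. -/
theorem isGeomUnibranch_of_subsingleton (h : ∀ p : PrimeSpectrum A, p = closedPoint A) :
    CAlg2.IsGeomUnibranch A := by
  obtain ⟨S, _, _, _, _, hS⟩ := BrnchLib.exists_strictHenselization A
  rw [← BrnchLib.isGeomUnibranch_iff, ← BrnchLib.card_minimalPrimes_strictHenselization A S,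
    ENat.card_eq_one_iff_unique]
  have key : ∀ q : minimalPrimes S, q.1 = maximalIdeal S := fun q => by
    let s : PrimeSpectrum S := ⟨q.1, q.2.1.1⟩
    exact congrArg PrimeSpectrum.asIdeal (eq_closedPoint_of_comap A S (s := s)
      (congrArg PrimeSpectrum.asIdeal (h (PrimeSpectrum.comap (algebraMap A S) s))))
  obtain ⟨P, hP, -⟩ := Ideal.exists_minimalPrimes_le (I := (⊥ : Ideal S)) (J := maximalIdeal S) bot_le
  exact ⟨{ default := ⟨P, hP⟩, uniq := fun a => Subtype.ext ((key a).trans (key ⟨P, hP⟩).symm) }⟩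

/-- The punctured strict henselization of a geometrically unibranch local ring is connected. -/
theorem connectedSpace_of_isGeomUnibranch (hA : CAlg2.IsGeomUnibranch A) (p : PrimeSpectrum A)
    (hp : p ≠ closedPoint A) : ConnectedSpace ↥({closedPoint S}ᶜ : Set (PrimeSpectrum S)) := by
  rw [← BrnchLib.isGeomUnibranch_iff, ← BrnchLib.card_minimalPrimes_strictHenselization A S,
    ENat.card_eq_one_iff_unique] at hA
  obtain ⟨hu⟩ := hA
  obtain ⟨P, hP⟩ := hu.default
  haveI := (Groth.Agent.Hensel.isHenzLike_of_isStrictHenselization A S).faithfullyFlat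
  have hmin : ∀ s : PrimeSpectrum S, P ≤ s.asIdeal := fun s => by
    obtain ⟨Q, hQ, hQs⟩ := Ideal.exists_minimalPrimes_le (I := (⊥ : Ideal S)) (J := s.asIdeal) bot_le
    exact (congrArg Subtype.val (Subsingleton.elim (α := minimalPrimes S) ⟨P, hP⟩ ⟨Q, hQ⟩)).le.trans hQs
  let η : PrimeSpectrum S := ⟨P, hP.1.1⟩
  obtain ⟨s, hs⟩ := PrimeSpectrum.comap_surjective_of_faithfullyFlat (B := S) p
  have hs0 : s ≠ closedPoint S := fun h => hp (by
    rw [← hs, h]
    exact IsLocalRing.comap_closedPoint (algebraMap A S))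
  have hη : η ≠ closedPoint S := fun h => hs0 (PrimeSpectrum.ext (le_antisymm (le_maximalIdeal s.isPrime.ne_top)
    ((congrArg PrimeSpectrum.asIdeal h).ge.trans (hmin s))))
  refine isConnected_iff_connectedSpace.1 ⟨⟨s, hs0⟩, ?_⟩
  refine isPreconnected_singleton.subset_closure (Set.singleton_subset_iff.2 (show η ∈ ({closedPoint S}ᶜ : Set (PrimeSpectrum S)) from hη)) fun t _ => ?_
  exact specializes_iff_mem_closure.1 ((PrimeSpectrum.le_iff_specializes η t).1 (hmin t))

/-- A connected punctured strict henselization makes two components meet outside the closed point. -/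
theorem exists_two_minimal (O : Type u) [CommRing O] [IsLocalRing O] [IsNoetherianRing O] (φ : A →+* O)
    (ψ : O →+* S) [IsLocalHom ψ] (hψ : letI := ψ.toAlgebra; Module.FaithfullyFlat O S)
    (hc : ψ.comp φ = algebraMap A S) (h2 : (2 : ℕ∞) ≤ (minimalPrimes O).encard)
    (hconn : ConnectedSpace ↥({closedPoint S}ᶜ : Set (PrimeSpectrum S))) :
    ∃ Q : PrimeSpectrum O, PrimeSpectrum.comap φ Q ≠ closedPoint A ∧
      ∃ P₁ ∈ minimalPrimes O, ∃ P₂ ∈ minimalPrimes O, P₁ ≠ P₂ ∧ P₁ ≤ Q.asIdeal ∧ P₂ ≤ Q.asIdeal := by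
  let T := PrimeSpectrum.comap ψ '' ({closedPoint S}ᶜ : Set (PrimeSpectrum S))
  have hT : _root_.IsPreconnected T :=
    (isConnected_iff_connectedSpace.2 hconn).isPreconnected.image _ (PrimeSpectrum.continuous_comap ψ).continuousOn
  obtain ⟨P₁, P₂, hP₁, hP₂, hne⟩ := Set.one_lt_encard_iff.1 (lt_of_lt_of_le (by norm_num) h2)
  have hmem : ∀ P ∈ minimalPrimes O, ∃ Q ∈ T, Q.asIdeal = P := fun P hP => by
    obtain ⟨s, hs⟩ : ∃ s : PrimeSpectrum S, PrimeSpectrum.comap ψ s = ⟨P, hP.1.1⟩ := by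
      letI := ψ.toAlgebra
      haveI := hψ
      exact PrimeSpectrum.comap_surjective_of_faithfullyFlat (B := S) _
    refine ⟨_, ⟨s, fun h => ?_, hs⟩, rfl⟩
    have hPm : P = maximalIdeal O := by
      have := congrArg PrimeSpectrum.asIdeal hs
      rw [Set.mem_singleton_iff.1 h, IsLocalRing.comap_closedPoint ψ] at this
      exact this.symm
    exact hne ((le_antisymm (hPm ▸ le_maximalIdeal hP₁.1.1.ne_top) (hP.2 hP₁.1 (hPm ▸ le_maximalIdeal hP₁.1.1.ne_top))).trans
      (le_antisymm (hPm ▸ le_maximalIdeal hP₂.1.1.ne_top) (hP.2 hP₂.1 (hPm ▸ le_maximalIdeal hP₂.1.1.ne_top))).symm)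
  let B : Set (PrimeSpectrum O) := ⋃ P ∈ minimalPrimes O \ {P₁}, PrimeSpectrum.zeroLocus (P : Set O)
  have hBc : IsClosed B := (minimalPrimes.finite_of_isNoetherianRing O).sdiff.isClosed_biUnion
    fun P _ => PrimeSpectrum.isClosed_zeroLocus _
  have hcov : T ⊆ PrimeSpectrum.zeroLocus (P₁ : Set O) ∪ B := fun Q _ => by
    obtain ⟨P, hP, hPQ⟩ := Ideal.exists_minimalPrimes_le (I := (⊥ : Ideal O)) (J := Q.asIdeal) bot_le
    by_cases h : P = P₁
    · exact Or.inl (h ▸ hPQ)
    · exact Or.inr (Set.mem_biUnion (show P ∈ minimalPrimes O \ {P₁} from ⟨hP, h⟩) hPQ)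
  obtain ⟨Q₁, hQ₁, hQ₁e⟩ := hmem P₁ hP₁
  obtain ⟨Q₂, hQ₂, hQ₂e⟩ := hmem P₂ hP₂
  obtain ⟨Q, ⟨s, hs, rfl⟩, hQP₁, hQB⟩ := isPreconnected_closed_iff.1 hT _ B (PrimeSpectrum.isClosed_zeroLocus _)
    hBc hcov ⟨Q₁, hQ₁, hQ₁e.ge⟩
    ⟨Q₂, hQ₂, Set.mem_biUnion (show P₂ ∈ minimalPrimes O \ {P₁} from ⟨hP₂, hne.symm⟩) hQ₂e.ge⟩
  obtain ⟨P, ⟨hP, hP1⟩, hPQ⟩ := Set.mem_iUnion₂.1 hQB
  refine ⟨_, fun h => hs (eq_closedPoint_of_comap A S ?_), P₁, hP₁, P, hP, Ne.symm hP1, hQP₁, hPQ⟩
  rw [← hc, ← Ideal.comap_comap]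
  exact congrArg PrimeSpectrum.asIdeal h

end Alg

section Scheme

variable {X : Scheme.{u}}

theorem forall_eq_closedPoint_iff (x : X) :
    (∀ p : PrimeSpectrum (X.presheaf.stalk x), p = closedPoint _) ↔
      closure ({x} : Set X) ∈ irreducibleComponents X := by
  constructor
  · refine fun h => ⟨isIrreducible_singleton.closure, fun T hT hle => ?_⟩
    have hx : hT.closure.genericPoint ⤳ x := specializes_iff_mem_closure.2 (by
      rw [hT.closure.closure_genericPoint isClosed_closure]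
      exact subset_closure (hle (subset_closure rfl)))
    obtain ⟨p, hp⟩ : hT.closure.genericPoint ∈ Set.range (X.fromSpecStalk x) := by
      rw [Scheme.range_fromSpecStalk]; exact hx
    have hpx : X.fromSpecStalk x p = x := by
      rw [show p = closedPoint (X.presheaf.stalk x) from h p, Scheme.fromSpecStalk_closedPoint]
    intro t ht
    have : t ∈ closure ({hT.closure.genericPoint} : Set X) := by
      rw [hT.closure.closure_genericPoint isClosed_closure]; exact subset_closure ht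
    rwa [← hp, hpx] at this
  · intro h p
    let p' : (Spec (X.presheaf.stalk x) : Scheme) := p
    have hy : X.fromSpecStalk x p' ⤳ x := (Scheme.range_fromSpecStalk.le ⟨p', rfl⟩ :)
    have hle : closure ({x} : Set X) ⊆ closure {X.fromSpecStalk x p'} := hy.closure_subset
    have hge := h.2 isIrreducible_singleton.closure hle
    have : X.fromSpecStalk x p' = x :=
      hy.antisymm (specializes_iff_mem_closure.2 (hge (subset_closure rfl))) |>.eq
    refine (X.fromSpecStalk x).isEmbedding.injective (a₁ := p') ?_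
    rw [this]
    exact (Scheme.fromSpecStalk_closedPoint).symm

theorem isGeomUnibranch_step_aux [IsLocallyNoetherian X] {x : X} {V : X.Opens} (hV : IsAffineOpen V) (hxV : x ∈ V)
    (K : Type u) [Field K] [IsAlgClosed K] [Algebra Γ(X, V) K] (ι : X.presheaf.stalk x →+* K) [hl : IsLocalHom ι]
    (hι : ∀ a, ι (X.presheaf.germ V x hxV a) = algebraMap _ _ a)
    (hgen : ∀ y : X, y ⤳ x → y ≠ x → CAlg2.IsGeomUnibranch (X.presheaf.stalk y))
    (hconn : ∀ (Ash : Type u) [CommRing Ash] [IsLocalRing Ash] [Algebra (X.presheaf.stalk x) Ash]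
        [IsLocalHom (algebraMap (X.presheaf.stalk x) Ash)]
        [_root_.Hensel.IsStrictHenselization (X.presheaf.stalk x) Ash],
        ConnectedSpace ↥({closedPoint Ash}ᶜ : Set (PrimeSpectrum Ash))) :
    CAlg2.IsGeomUnibranch (X.presheaf.stalk x) := by
  letI aX : Algebra Γ(X, V) (X.presheaf.stalk x) := (X.presheaf.germ V x hxV).hom.toAlgebra
  haveI : IsLocalization.AtPrime (X.presheaf.stalk x) (hV.primeIdealOf ⟨x, hxV⟩).asIdeal :=
    hV.isLocalization_stalk ⟨x, hxV⟩
  letI : Algebra (X.presheaf.stalk x) K := ι.toAlgebra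
  haveI : IsScalarTower Γ(X, V) (X.presheaf.stalk x) K := .of_algebraMap_eq fun a => (hι a).symm
  haveI : IsLocalHom (algebraMap (X.presheaf.stalk x) K) := hl
  let M := (hV.primeIdealOf ⟨x, hxV⟩).asIdeal.primeCompl
  let fl := AlgSpDec.EtHenz.fromLocal Γ(X, V) (X.presheaf.stalk x) K M
  letI := fl.toRingHom.toAlgebra
  obtain ⟨hlH, hH⟩ := AlgSpDec.EtHenz.isStrictHenselization Γ(X, V) (X.presheaf.stalk x) K M
  by_contra hbad
  rw [← BrnchLib.isGeomUnibranch_iff,
    ← BrnchLib.card_minimalPrimes_strictHenselization (X.presheaf.stalk x) (Henz Γ(X, V) K)] at hbad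
  have h2 : ((2 : ℕ) : ℕ∞) ≤
      ((⊥ : Ideal (X.presheaf.stalk x)).map fl.toRingHom).minimalPrimes.encard := by
    rw [Ideal.map_bot]
    obtain ⟨P, hP, -⟩ := Ideal.exists_minimalPrimes_le
      (I := (⊥ : Ideal (Henz Γ(X, V) K))) (J := maximalIdeal _) bot_le
    have h1 : 1 ≤ (minimalPrimes (Henz Γ(X, V) K)).encard := Set.one_le_encard_iff_nonempty.2 ⟨P, hP⟩
    exact Order.add_one_le_of_lt (lt_of_le_of_ne h1 (Ne.symm hbad))
  obtain ⟨U, g, u, hgu, hg, ⟨τ, hτl, hτ⟩, hU⟩ :=
    BrnchLib.EtNbhd.exists_le_henz hV hxV fl.toRingHom fl.commutes ι hι ⊥ 2 h2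
  rw [Ideal.map_bot] at hU
  haveI := hg
  haveI := hτl
  obtain ⟨σ, hff, hσl, hσ⟩ : ∃ σ : U.presheaf.stalk u →+* Henz Γ(X, V) K,
      (letI := σ.toAlgebra; Module.FaithfullyFlat (U.presheaf.stalk u) (Henz Γ(X, V) K)) ∧ IsLocalHom σ ∧
      σ.comp (BrnchLib.EtNbhd.stMap g u hgu) = fl.toRingHom := by
    subst hgu
    obtain ⟨W, hW, huW, hWV⟩ := exists_isAffineOpen_mem_and_subset (U := g ⁻¹ᵁ V) (x := u) hxV
    letI : Algebra Γ(X, V) Γ(U, W) := (g.appLE V W hWV).hom.toAlgebra
    let τB : Γ(U, W) →ₐ[Γ(X, V)] K := { τ.comp (U.presheaf.germ W u huW).hom with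
      commutes' := fun a => by
        show τ (U.presheaf.germ W u huW ((g.appLE V W hWV).hom a)) = _
        rw [BrnchLib.EtNbhd.stMap_rfl] at hτ
        refine Eq.trans ?_ ((congr($hτ (X.presheaf.germ V (g u) hxV a))).trans (hι a))
        rw [RingHom.comp_apply, Scheme.Hom.germ_stalkMap_apply, Scheme.Hom.appLE, CommRingCat.comp_apply,
          TopCat.Presheaf.germ_res_apply] }
    haveI : Algebra.Etale Γ(X, V) Γ(U, W) := RingHom.etale_algebraMap.1
      (HasRingHomProperty.appLE (P := @Etale) g ‹_› ⟨V, hV⟩ ⟨W, hW⟩ hWV)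
    obtain ⟨σ, hff, hσl, hσ, -⟩ := BrnchLib.EtNbhd.exists_sigma hV g u hxV fl.toRingHom fl.commutes W hW hWV huW
      rfl τB fun b => by
        rw [U.mem_basicOpen (hx := huW), ← isUnit_map_iff τ, isUnit_iff_ne_zero, not_not]
        rfl
    exact ⟨σ, hff, hσl, by rw [BrnchLib.EtNbhd.stMap_rfl]; exact hσ⟩
  haveI : IsLocallyNoetherian U := LocallyOfFiniteType.isLocallyNoetherian g
  haveI := hσl
  obtain ⟨Q, hQ, P₁, hP₁, P₂, hP₂, hne, hP₁Q, hP₂Q⟩ := exists_two_minimal (X.presheaf.stalk x)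
    (Henz Γ(X, V) K) (U.presheaf.stalk u) (BrnchLib.EtNbhd.stMap g u hgu) σ hff hσ hU (hconn _)
  subst hgu
  rw [BrnchLib.EtNbhd.stMap_rfl] at hQ
  let Q' : (Spec (U.presheaf.stalk u) : Scheme) := Q
  let u' := U.fromSpecStalk u Q'
  have hgu' : g u' = X.fromSpecStalk (g u) (Spec.map (g.stalkMap u) Q') := by
    rw [← Scheme.Hom.comp_apply, ← Scheme.Hom.comp_apply, Scheme.SpecMap_stalkMap_fromSpecStalk]
  have hy : g u' ⤳ g u := (Scheme.range_fromSpecStalk.le ⟨_, hgu'.symm⟩ :)
  have hyne : g u' ≠ g u := fun h => hQ ((X.fromSpecStalk (g u)).isEmbedding.injective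
    (a₁ := Spec.map (g.stalkMap u) Q') (a₂ := closedPoint (X.presheaf.stalk (g u)))
    (by rw [← hgu', h]; exact Scheme.fromSpecStalk_closedPoint.symm))
  let f : (Spec (U.presheaf.stalk u) : Scheme) → Set U := fun z => closure {U.fromSpecStalk u z}
  let z : ∀ P ∈ minimalPrimes (U.presheaf.stalk u), (Spec (U.presheaf.stalk u) : Scheme) :=
    fun P hP => (⟨P, hP.1.1⟩ : PrimeSpectrum (U.presheaf.stalk u))
  have hz : ∀ P hP, closure ({z P hP} : Set (Spec (U.presheaf.stalk u))) ∈
      irreducibleComponents (Spec (U.presheaf.stalk u) : Type u) := fun P hP => by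
    have := (PrimeSpectrum.vanishingIdeal_mem_minimalPrimes
      (s := ({(⟨P, hP.1.1⟩ : PrimeSpectrum (U.presheaf.stalk u))} : Set _))).1
      (by rw [PrimeSpectrum.vanishingIdeal_singleton]; exact hP)
    exact this
  have hcard : (1 : ℕ∞) < (minimalPrimes (U.presheaf.stalk u')).encard := by
    rw [← BrnchLib.EtNbhd.encard_components_eq, Set.one_lt_encard_iff]
    refine ⟨f (z P₁ hP₁), f (z P₂ hP₂), ⟨((Groth.Agent.S2284.result U u).mapsTo (hz P₁ hP₁)).1, ?_⟩,
      ⟨((Groth.Agent.S2284.result U u).mapsTo (hz P₂ hP₂)).1, ?_⟩, fun h => hne ?_⟩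
    · exact specializes_iff_mem_closure.1
        (((PrimeSpectrum.le_iff_specializes (⟨P₁, hP₁.1.1⟩ : PrimeSpectrum _) Q).1 hP₁Q).map
          (U.fromSpecStalk u).continuous)
    · exact specializes_iff_mem_closure.1
        (((PrimeSpectrum.le_iff_specializes (⟨P₂, hP₂.1.1⟩ : PrimeSpectrum _) Q).1 hP₂Q).map
          (U.fromSpecStalk u).continuous)
    · exact congrArg PrimeSpectrum.asIdeal
        ((Groth.Agent.S2284.result U u).injOn (hz P₁ hP₁) (hz P₂ hP₂) h)
  haveI := BrnchLib.EtNbhd.isLocalRing_quotient (⊥ : Ideal (X.presheaf.stalk (g u'))) bot_le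
  have hle := BrnchLib.EtNbhd.geom_le g u' (x := g u') rfl (⊥ : Ideal _)
  rw [Ideal.map_bot, BrnchLib.EtNbhd.numGeomBranches_congr (RingEquiv.quotientBot _),
    (BrnchLib.isGeomUnibranch_iff _).2 (hgen _ hy hyne)] at hle
  exact (hcard.trans_le hle).false

/-- The punctured condition at `x` forces one geometric branch when the proper generalizations have one. -/
theorem isGeomUnibranch_step [IsLocallyNoetherian X] (x : X)
    (hgen : ∀ y : X, y ⤳ x → y ≠ x → CAlg2.IsGeomUnibranch (X.presheaf.stalk y))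
    (hconn : ∀ (Ash : Type u) [CommRing Ash] [IsLocalRing Ash] [Algebra (X.presheaf.stalk x) Ash]
        [IsLocalHom (algebraMap (X.presheaf.stalk x) Ash)]
        [_root_.Hensel.IsStrictHenselization (X.presheaf.stalk x) Ash],
        ConnectedSpace ↥({closedPoint Ash}ᶜ : Set (PrimeSpectrum Ash))) :
    CAlg2.IsGeomUnibranch (X.presheaf.stalk x) := by
  obtain ⟨V, hV, hxV, -⟩ := exists_isAffineOpen_mem_and_subset (U := (⊤ : X.Opens)) (x := x) trivial
  let K := AlgebraicClosure (ResidueField (X.presheaf.stalk x))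
  let ι : X.presheaf.stalk x →+* K := (algebraMap (ResidueField (X.presheaf.stalk x)) K).comp (residue _)
  haveI : IsLocalHom ι := BrnchLib.EtNbhd.isLocalHom_residue_comp _
  letI : Algebra Γ(X, V) K := (ι.comp (X.presheaf.germ V x hxV).hom).toAlgebra
  exact isGeomUnibranch_step_aux hV hxV K ι (fun _ => rfl) hgen hconn

/-- Induction on generalizations. -/
theorem isGeomUnibranch_all [IsLocallyNoetherian X]
    (h : ∀ (x : X), closure ({x} : Set X) ∉ irreducibleComponents X →
        ∀ (Ash : Type u) [CommRing Ash] [IsLocalRing Ash] [Algebra (X.presheaf.stalk x) Ash]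
        [IsLocalHom (algebraMap (X.presheaf.stalk x) Ash)]
        [_root_.Hensel.IsStrictHenselization (X.presheaf.stalk x) Ash],
        ConnectedSpace ↥({closedPoint Ash}ᶜ : Set (PrimeSpectrum Ash))) (x : X) :
    CAlg2.IsGeomUnibranch (X.presheaf.stalk x) := by
  suffices ∀ p : PrimeSpectrum (X.presheaf.stalk x),
      CAlg2.IsGeomUnibranch (X.presheaf.stalk (X.fromSpecStalk x p)) by
    have := this (closedPoint (X.presheaf.stalk x))
    rwa [Scheme.fromSpecStalk_closedPoint] at this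
  intro p
  induction p using (InvImage.wf (fun p : PrimeSpectrum (X.presheaf.stalk x) => p.asIdeal.height)
    wellFounded_lt).induction with
  | _ p ih =>
    by_cases hp : closure ({X.fromSpecStalk x p} : Set X) ∈ irreducibleComponents X
    · exact isGeomUnibranch_of_subsingleton _ ((forall_eq_closedPoint_iff _).2 hp)
    refine isGeomUnibranch_step _ (fun y hy hne => ?_) (h _ hp)
    obtain ⟨q, rfl⟩ : y ∈ Set.range (X.fromSpecStalk x) := by
      rw [Scheme.range_fromSpecStalk]
      exact hy.trans (Scheme.range_fromSpecStalk.le ⟨p, rfl⟩ :)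
    let q' : PrimeSpectrum (X.presheaf.stalk x) := q
    exact ih q' (Ideal.height_strict_mono_of_isPrime (lt_of_le_of_ne
      ((PrimeSpectrum.le_iff_specializes q' p).2 ((X.fromSpecStalk x).isEmbedding.isInducing.specializes_iff.1 hy))
      fun e => hne (congrArg (X.fromSpecStalk x) (PrimeSpectrum.ext e))))

end Scheme

end Groth.Agent.Unib7.Punctured
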